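import Cfsg.Agent.H88.WA.Layers

/-!
# Three or more blocks are impossible

The normaliser of the product of the layers of the blocks is proper and contains every `C(b)`,
`b ∈ A#`, so there is a strongly embedded subgroup.
-/

set_option autoImplicit false

namespace Cfsg.Agent.H88.WA

open Subgroup Cfsg.Agent
open Cfsg.Agent.H88.Walter (Bb pre vp qp core perfPart)
open Cfsg.Agent.H77.WA

universe u

variable {G : Type u} [Group G] [Finite G] {S : Sylow 2 G} {A : Subgroup G}
  {Ps : Set (Subgroup G)}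

local instance fact_two_wa_blocks : Fact (Nat.Prime 2) := ⟨Nat.prime_two⟩

theorem map_lam_le (h : H82.WA.Hyp S A) (d : Decomp A Ps)
    (hdelta : ∀ E : Subgroup G, E ≤ A → 8 ≤ Nat.card E → Cfsg.signalizerDelta 2 E = ⊥)
    {n : G} (hn : n ∈ normalizer (A : Set G)) {P : Subgroup G} (hP : P ∈ Ps) :
    (lam A Ps P).map (MulAut.conj n).toMonoidHom ≤
      lam A Ps (P.map (MulAut.conj n).toMonoidHom) := by
  obtain ⟨r, hr, -, hr1⟩ := exists_common d hP hP
  obtain ⟨L, hB⟩ := blk_exists h d hP hr hr1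
  obtain ⟨L', hL', hv, -, hpre, -⟩ := h.conj G A n hn r L hB.met
  rw [lam_eq h d hP hdelta hB]
  refine le_trans ?_ (lam_eq h d (d.conj n hn P hP) hdelta
    (⟨?_, ?_, hL', by rw [hv, hB.piece]⟩ : Blk A Ps _ (n * r * n⁻¹) L')).ge
  · exact H88.Walter.perfPart_map_conj_le hpre.ge
  · have hle : (others Ps P).map (MulAut.conj n).toMonoidHom ≤
        others Ps (P.map (MulAut.conj n).toMonoidHom) := by
      refine map_le_iff_le_comap.2 (sSup_le fun Q hQ => map_le_iff_le_comap.1
        (le_others d (d.conj n hn P hP) (d.conj n hn Q hQ.1) fun e => hQ.2 ?_))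
      exact map_injective (MulAut.conj n).injective e
    exact hle ⟨r, hr, rfl⟩
  · exact fun e => hr1 (by simpa [mul_assoc] using congrArg (fun t => n⁻¹ * t * n) e)

/-- **Three or more blocks are impossible.** -/
theorem manyBlocksStep :
    TypeFacts.{u} → BarStruct.{u} → ConjFacts.{u} → LinkFacts.{u} → ManyBlocksStep.{u} := by
  intro htf hbar hconj hlink G _ _ S A Ps hcfg hclean d
  have h : H82.WA.Hyp S A := ⟨hcfg, hclean, htf, hbar, hconj, hlink⟩
  have := hcfg.simple
  obtain ⟨P₀, hP₀⟩ := d.nonempty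
  have h16 : 16 ≤ Nat.card A :=
    (card_others d hP₀).trans (card_le_of_le (others_le d hP₀))
  have hq : ∀ b ∈ A, b ≠ 1 → ∀ L : Subgroup (Bb b), CMet A b L → 8 ≤ Nat.card ↥(qp A b L) := by
    intro b hb hb1 L hL
    obtain ⟨P, hP, -, hle⟩ := d.met b hb hb1 L hL
    exact le_trans (by norm_num) ((card_others d hP).trans (card_le_of_le hle))
  have hdelta : ∀ E : Subgroup G, E ≤ A → 8 ≤ Nat.card E → Cfsg.signalizerDelta 2 E = ⊥ :=
    fun E hE hc => delta_eq_bot h h16 hq hE hc
  set H : Subgroup G := ⨆ P : Ps, lam A Ps P with hH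
  have hle : ∀ P ∈ Ps, lam A Ps P ≤ H := fun P hP => le_iSup (fun Q : Ps => lam A Ps Q) ⟨P, hP⟩
  have hHN : ∀ P ∈ Ps, H ≤ normalizer (lam A Ps P : Set G) := fun P hP => iSup_le fun Q => by
    rcases eq_or_ne (Q : Subgroup G) P with e | e
    · exact e ▸ le_normalizer
    · exact (lam_commute h d Q.2 hdelta hP e).trans (centralizer_le_normalizer _)
  have hNA : normalizer (A : Set G) ≤ normalizer (H : Set G) := fun n hn => by
    refine Coprime.mem_normalizer_of_map_conj (eq_of_le_of_card_ge ?_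
      (by rw [Coprime.card_map_conj]))
    rw [hH, Subgroup.map_iSup]
    exact iSup_le fun P => (map_lam_le h d hdelta hn P.2).trans (hle _ (d.conj n hn P P.2))
  have htop : normalizer (H : Set G) = ⊤ := eq_top_of_centralizers h fun b hb hb1 => by
    have hcore : core b ≤ normalizer (H : Set G) :=
      (le_iInf fun P : Ps => core_le_normalizer h d P.2 hdelta hb).trans
        (iInf_normalizer_le_normalizer_iSup _)
    refine centralizer_le_of_met h hb hb1 hNA hcore fun L hL => ?_
    obtain ⟨P, hP, hvP, -⟩ := d.met b hb hb1 L hL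
    exact (pre_le_lam_sup h d hP hdelta hb hb1 hL hvP).trans
      (sup_le ((hle P hP).trans le_normalizer) hcore)
  have hHn : H.Normal := normalizer_eq_top_iff.1 htop
  rcases IsSimpleGroup.eq_bot_or_eq_top_of_normal H hHn with e | e
  · exact lam_ne_bot h d hP₀ hdelta (le_bot_iff.1 (e ▸ hle P₀ hP₀))
  have hall : ∀ P ∈ Ps, lam A Ps P = ⊤ := fun P hP => by
    have hn : (lam A Ps P).Normal :=
      normalizer_eq_top_iff.1 (top_le_iff.1 (e ▸ hHN P hP))
    exact (IsSimpleGroup.eq_bot_or_eq_top_of_normal _ hn).resolve_left (lam_ne_bot h d hP hdelta)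
  obtain ⟨Q, hQ, hQP, -⟩ := d.three P₀ hP₀ P₀ hP₀
  have hc := lam_commute h d hQ hdelta hP₀ hQP
  rw [hall Q hQ, hall P₀ hP₀] at hc
  exact hcfg.nonab ⟨⟨fun x y => (mem_centralizer_iff.1 (hc (mem_top y)) x (mem_top x))⟩⟩

end Cfsg.Agent.H88.WA
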