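import Cfsg.Agent.H88.WA.Local
import Cfsg.Agent.H82.WA.TopBasic
import Cfsg.Agent.H21.Walter.Balance
import Cfsg.Agent.H21.Walter.Two
import Cfsg.Agent.H21.WA.LinkBasic
import Cfsg.Agent.H62.WA.NoMet
import Cfsg.Agent.S1174

/-!
# Three or more blocks: half-balance and generation

`G` is weakly 2-balanced and 3-balanced with respect to `A`, and no proper subgroup holds `N(A)` and
the normalisers of the subgroups of order 8 of `A` when all `qp` have order at least 8; hence
`Δ(E) = 1` for `|E| ≥ 8`.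
-/

set_option autoImplicit false
set_option linter.unusedSectionVars false

namespace Cfsg.Agent.H88.WA

open Subgroup Cfsg.Agent
open Cfsg.Agent.H88.Walter (Bb pre cen vp qp core mem_pre)
open Cfsg.Agent.H21.Walter (coreProj coreImage coreProj_eq_one_iff)
open Cfsg.Agent.H77.WA
open scoped commutatorElement

universe u

variable {G : Type u} [Group G] [Finite G] {S : Sylow 2 G} {A : Subgroup G}

local instance fact_two_wa_gen : Fact (Nat.Prime 2) := ⟨Nat.prime_two⟩

/-- A subgroup covering a subgroup of `C(b)` modulo the core holds its preimage. -/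
theorem pre_le_of_cover {b : G} {M : Subgroup G} (hcore : core b ≤ M) {K : Subgroup (Bb b)}
    (hK : K ≤ coreImage b M) : pre b K ≤ M := by
  intro x hx
  obtain ⟨hxb, hxK⟩ := mem_pre.1 hx
  obtain ⟨m, hmb, hm, e⟩ := H21.WA.mem_coreImage.1 (hK hxK)
  have h1 : coreProj b (⟨m, hmb⟩⁻¹ * ⟨x, hxb⟩) = 1 := by rw [map_mul, map_inv, e, inv_mul_cancel]
  simpa using M.mul_mem hm (hcore (coreProj_eq_one_iff.1 h1))

/-- A subgroup with the core of `C(b)`, the met components and `N(A) ∩ C(b)` holds `C(b)`. -/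
theorem centralizer_le_of_met (h : H82.WA.Hyp S A) {b : G} (hb : b ∈ A) (hb1 : b ≠ 1)
    {M : Subgroup G} (hN : normalizer (A : Set G) ≤ M) (hcore : core b ≤ M)
    (hmet : ∀ L : Subgroup (Bb b), CMet A b L → pre b L ≤ M) :
    centralizer ({b} : Set G) ≤ M := by
  set E : Subgroup (Bb b) := coreImage b A ⊔
    ⨆ L : {L : Subgroup (Bb b) // Met (coreImage b A) L}, (L : Subgroup (Bb b)) with hE
  have hn : E.Normal := (h.struct hb hb1).normal
  have hEM : E ≤ coreImage b M := by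
    refine sup_le (H21.WA.coreImage_mono' (le_normalizer.trans hN)) (iSup_le fun L y hy => ?_)
    obtain ⟨⟨g, hg⟩, rfl⟩ := H88.Walter.coreProj_surjective b y
    exact H88.Walter.coreImage_mem hg (hmet L L.2 (mem_pre.2 ⟨hg, hy⟩))
  set N := pre b E
  have hNM : N ≤ M := pre_le_of_cover hcore hEM
  have hCN : centralizer ({b} : Set G) ≤ normalizer (N : Set G) := fun g hg =>
    H21.WA.mem_normalizer_pre hg (by rw [normalizer_eq_top_iff.2 hn]; exact mem_top _)
  have hAN : A ≤ N := fun a ha =>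
    mem_pre.2 ⟨h.le_cent hb ha, mem_sup_left (H88.Walter.coreImage_mem _ ha)⟩
  obtain ⟨T, hT⟩ := (h.isPGroup.comap_subtype :
    IsPGroup 2 ↥(A.subgroupOf N)).exists_le_sylow
  set T' := (T : Subgroup ↥N).map N.subtype
  have hTp : IsPGroup 2 ↥T' := T.isPGroup'.map _
  have hAT : A ≤ T' := fun a ha => ⟨⟨a, hAN ha⟩, hT (mem_subgroupOf.2 ha), rfl⟩
  intro c hc
  have hcN : A.map (MulAut.conj c).toMonoidHom ≤ N :=
    (map_mono hAN).trans (Coprime.map_conj_eq (hCN hc)).le
  obtain ⟨T₁, hT₁⟩ := (((h.isPGroup.map (MulAut.conj c).toMonoidHom)).comap_subtype :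
    IsPGroup 2 ↥((A.map (MulAut.conj c).toMonoidHom).subgroupOf N)).exists_le_sylow
  obtain ⟨n, hn'⟩ := MulAction.exists_smul_eq ↥N T₁ T
  have hmem : ∀ a ∈ A, ((n : G) * c) * a * ((n : G) * c)⁻¹ ∈ T' := by
    intro a ha
    have h1 : (⟨c * a * c⁻¹, hcN ⟨a, ha, rfl⟩⟩ : ↥N) ∈ (T₁ : Subgroup ↥N) :=
      hT₁ (mem_subgroupOf.2 ⟨a, ha, rfl⟩)
    have h2 : n * (⟨c * a * c⁻¹, hcN ⟨a, ha, rfl⟩⟩ : ↥N) * n⁻¹ ∈ (T : Subgroup ↥N) := by
      rw [← hn']; exact ⟨_, h1, rfl⟩
    refine ⟨_, h2, ?_⟩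
    show (n : G) * (c * a * c⁻¹) * (n : G)⁻¹ = _
    group
  obtain ⟨g, hg⟩ := H52.Commuting.exists_cover S hTp
  have hA' : ∀ x ∈ T', x ∈ H52.Commuting.Conjs A → x ∈ H48.cj g A := fun x hx hxc =>
    H52.Commuting.mem_cj_of_mem_conjs h.cfg.closed hxc (hg hx)
  have hle : A ≤ H48.cj g A := fun a ha => hA' a (hAT ha) (H52.Commuting.mem_conjs_self ha)
  have heq : A = H48.cj g A :=
    eq_of_le_of_card_ge hle (by rw [H48.cj, Coprime.card_map_conj])
  have hncA : (n : G) * c ∈ normalizer (A : Set G) := by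
    refine Coprime.mem_normalizer_of_map_conj (eq_of_le_of_card_ge ?_
      (by rw [Coprime.card_map_conj]))
    rintro _ ⟨a, ha, rfl⟩
    rw [heq]
    exact hA' _ (hmem a ha) (H52.Commuting.conj_mem_conjs (H52.Commuting.mem_conjs_self ha) _)
  simpa using M.mul_mem (M.inv_mem (hNM n.2)) (hN hncA)

/-- A proper subgroup cannot hold all the `C(b)`. -/
theorem eq_top_of_centralizers (h : H82.WA.Hyp S A) {M : Subgroup G}
    (hM : ∀ b ∈ A, b ≠ 1 → centralizer ({b} : Set G) ≤ M) : M = ⊤ := by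
  have := h.cfg.simple
  by_contra hne
  refine h.cfg.noSE (Cfsg.Agent.S1174.result S A h.cfg.ne_bot h.cfg.closed fun he =>
    hne (top_le_iff.1 ?_))
  rw [← he]
  exact iSup_le fun t => hM t.1 t.2.1 fun h1 => by
    have h2 := t.2.2
    rw [h1, orderOf_one] at h2
    omega

section Balance

variable (h : H82.WA.Hyp S A)
include h

theorem center_bot_met {b : G} (hb : b ∈ A) (hb1 : b ≠ 1) :
    ∀ L, Met (coreImage b A) L → center ↥L = ⊥ := fun L hL => h.center_bot hb hb1 (L := L) hL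

theorem weakly_balanced : Cfsg.IsWeaklyKBalancedWrt 2 2 A := by
  intro B hB hBe hc b hb hb1
  have hAb := h.le_cent hb
  have hW := le_centralizer_of_under h.types (H62.WA.coreImage_elementary h.cfg.elem b)
    (h.struct hb hb1) Cores.pPrimeCore_quotient_pPrimeCore (center_bot_met h hb hb1)
    (H21.WA.coreImage_mono' hB)
    (by rw [H21.Walter.card_coreImage h.cfg.elem hB (hB.trans hAb)]; simpa using hc)
    (H21.Walter.under_of_delta hBe (hB.trans hAb) (le_trans (by norm_num) hc))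
  refine commutator_le.2 fun x hx v hv => ?_
  have h1 := mem_centralizer_iff.1 (hW (H88.Walter.coreImage_mem (H := _) hx.2 hx)) _
    (H88.Walter.coreImage_mem (hAb hv) hv)
  have h2 : coreProj b ⁅(⟨x, hx.2⟩ : ↥(centralizer ({b} : Set G))), ⟨v, hAb hv⟩⁆ = 1 := by
    rw [map_commutatorElement, commutatorElement_eq_one_iff_mul_comm]
    exact h1.symm
  simpa [commutatorElement_def] using coreProj_eq_one_iff.1 h2

theorem three_balanced : Cfsg.IsKBalancedWrt 2 (2 + 1) A := by
  intro B hB hBe hc b hb hb1 x hx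
  have hAb := h.le_cent hb
  have hW := eq_bot_of_under h.types (H62.WA.coreImage_elementary h.cfg.elem b)
    (h.struct hb hb1) Cores.pPrimeCore_quotient_pPrimeCore (center_bot_met h hb hb1)
    (H21.WA.coreImage_mono' hB)
    (by rw [H21.Walter.card_coreImage h.cfg.elem hB (hB.trans hAb)]; simpa using hc)
    (H21.Walter.under_of_delta hBe (hB.trans hAb) (le_trans (by norm_num) hc))
  have h1 : coreProj b ⟨x, hx.2⟩ = 1 := by
    rw [← mem_bot, ← hW]
    exact H88.Walter.coreImage_mem (H := Cfsg.signalizerDelta 2 B ⊓ centralizer {b}) hx.2 hx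
  exact coreProj_eq_one_iff.1 h1

/-- The core is covered by the centralisers of the subgroups of order 8. -/
theorem core_le_of_eight {b : G} (hb : b ∈ A) (h16 : 16 ≤ Nat.card A) {M : Subgroup G}
    (hC : ∀ E : Subgroup G, E ≤ A → Nat.card E = 8 → centralizer (E : Set G) ≤ M) : core b ≤ M := by
  haveI : IsMulCommutative A := h.cfg.elem.1
  refine Coprime.le_of_centralizer_cyclic_quotient_le
    ((h.le_cent hb).trans (H88.Walter.core_normal b)) ?_ fun B hB hBh => ?_
  · obtain ⟨i, hi⟩ := IsPGroup.iff_card.1 h.isPGroup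
    rw [hi]
    exact Nat.Coprime.pow_left _ (Nat.coprime_two_left.2 (H88.Walter.core_odd b))
  · have h1 := H21.Walter.hyper_card (p := 2) h.cfg.elem hB hBh
    obtain ⟨E, hEB, hE⟩ := H21.Walter.exists_card_eq (p := 2) h.cfg.elem hB (j := 3) (by omega)
    exact inf_le_right.trans ((centralizer_le (SetLike.coe_subset_coe.2 hEB)).trans
      (hC E (hEB.trans hB) hE))

/-- **Generation.** -/
theorem gen_eight (h16 : 16 ≤ Nat.card A)
    (hq : ∀ b ∈ A, b ≠ 1 → ∀ L : Subgroup (Bb b), CMet A b L → 8 ≤ Nat.card ↥(qp A b L))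
    {M : Subgroup G} (hN : normalizer (A : Set G) ≤ M)
    (hE : ∀ E : Subgroup G, E ≤ A → Nat.card E = 2 ^ (2 + 1) → normalizer (E : Set G) ≤ M) :
    M = ⊤ := by
  have hC : ∀ E : Subgroup G, E ≤ A → Nat.card E = 8 → centralizer (E : Set G) ≤ M :=
    fun E hEA hc => (centralizer_le_normalizer _).trans (hE E hEA hc)
  refine eq_top_of_centralizers h fun b hb hb1 => ?_
  have hcore := core_le_of_eight h hb h16 hC
  refine centralizer_le_of_met h hb hb1 hN hcore fun L hL => pre_le_of_cover hcore ?_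
  obtain ⟨E, hEq, hEc⟩ := H21.Walter.exists_card_eq (p := 2) h.cfg.elem
    (show qp A b L ≤ A from inf_le_left) (j := 3) (hq b hb hb1 L hL)
  have hEA : E ≤ A := hEq.trans inf_le_left
  intro y hy
  have hEp : IsPGroup 2 ↥(E.subgroupOf (centralizer ({b} : Set G))) :=
    (h.isPGroup.to_le hEA).comap_subtype
  have hyc : y ∈ centralizer (coreImage b E : Set (Bb b)) := by
    refine mem_centralizer_iff.2 ?_
    rintro _ ⟨⟨a, hab⟩, ha, rfl⟩
    obtain ⟨_, hc⟩ := mem_pre.1 (show a ∈ cen b L from (hEq ha).2)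
    exact (mem_centralizer_iff.1 hc y hy).symm
  rw [coreImage, coreProj, ← Cores.map_centralizer_of_coprime _
    ((Nat.prime_two.coprime_iff_not_dvd.2 Cores.not_dvd_card_pPrimeCore).symm) hEp] at hyc
  obtain ⟨g, hg, rfl⟩ := hyc
  exact H88.Walter.coreImage_mem g.2 (hC E hEA hEc (mem_centralizer_iff.2 fun x hx =>
    congrArg Subtype.val (mem_centralizer_iff.1 hg ⟨x, h.le_cent hb (hEA hx)⟩ hx)))

/-- `Δ(E) = 1` for `|E| ≥ 8`. -/
theorem delta_eq_bot (h16 : 16 ≤ Nat.card A)
    (hq : ∀ b ∈ A, b ≠ 1 → ∀ L : Subgroup (Bb b), CMet A b L → 8 ≤ Nat.card ↥(qp A b L))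
    {E : Subgroup G} (hE : E ≤ A) (hc : 8 ≤ Nat.card E) : Cfsg.signalizerDelta 2 E = ⊥ := by
  have := h.cfg.simple
  exact (H21.Walter.trivial_of_gen_two (k := 2) (by norm_num) h.cfg.elem (by simpa using h16)
    ⟨weakly_balanced h, three_balanced h⟩ fun M hN hM => gen_eight h h16 hq hN hM).1 E hE
      (by simpa using hc)

end Balance

end Cfsg.Agent.H88.WA
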