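import Cfsg.Agent.H88.WA.Gen

/-!
# Three or more blocks: the layers of the blocks

The perfect part `lam P` over the component of a block `P` does not depend on the element of the
other blocks, is centralised by their cores, commutes with the other `lam Q` and is normalised by
all cores; every met component lies over some `lam P`.
-/

set_option autoImplicit false
set_option linter.unusedSectionVars false

namespace Cfsg.Agent.H88.WA

open Subgroup Cfsg.Agent
open Cfsg.Agent.H88.Walter (Bb pre cen vp qp core mem_pre perfPart)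
open Cfsg.Agent.H21.Walter (coreProj coreImage coreProj_eq_one_iff)
open Cfsg.Agent.H77.WA
open scoped commutatorElement

universe u

variable {G : Type u} [Group G] [Finite G] {S : Sylow 2 G} {A : Subgroup G}
  {Ps : Set (Subgroup G)}

local instance fact_two_wa_layers : Fact (Nat.Prime 2) := ⟨Nat.prime_two⟩

/-! ### Perfect parts and lifting -/

theorem perfPart_le_perfRes (H : Subgroup G) : perfPart H ≤ perfRes H := by
  refine le_iInf fun n => ?_
  induction n with
  | zero =>
    rw [derivedSeries_zero, ← MonoidHom.range_eq_map, range_subtype]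
    exact H88.Walter.perfPart_le H
  | succ n ih =>
    rw [derivedSeries_succ, map_commutator, ← H88.Walter.perfPart_perfect H]
    exact commutator_mono ih ih

/-- A 2-subgroup `R` centralising the component `L` modulo the core: `C(R)` covers `L`. -/
theorem image_perfPart {b : G} {L : Subgroup (Bb b)} (hL : Cfsg.IsComponent L) {R : Subgroup G}
    (hR : IsPGroup 2 R) (hRL : R ≤ cen b L) :
    coreImage b (perfPart (centralizer (R : Set G) ⊓ pre b L)) = L := by
  set D := centralizer (R : Set G) ⊓ pre b L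
  have hDb : D ≤ centralizer ({b} : Set G) := inf_le_right.trans (H88.Walter.pre_le b L)
  have hLD : L ≤ (D.subgroupOf (centralizer ({b} : Set G))).map (coreProj b) := by
    intro y hy
    have hP : IsPGroup 2 ↥(R.subgroupOf (centralizer ({b} : Set G))) := hR.comap_subtype
    have hm : y ∈ centralizer (coreImage b R : Set (Bb b)) := by
      refine mem_centralizer_iff.2 ?_
      rintro _ ⟨⟨a, hab⟩, ha, rfl⟩
      obtain ⟨_, hc⟩ := mem_pre.1 (hRL ha)
      exact (mem_centralizer_iff.1 hc y hy).symm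
    rw [coreImage, coreProj, ← Cores.map_centralizer_of_coprime _
      ((Nat.prime_two.coprime_iff_not_dvd.2 Cores.not_dvd_card_pPrimeCore).symm) hP] at hm
    obtain ⟨g, hg, rfl⟩ := hm
    exact mem_map_of_mem _ (show g ∈ D.subgroupOf _ from
      ⟨mem_centralizer_iff.2 fun x hx => congrArg Subtype.val (mem_centralizer_iff.1 hg
        ⟨x, H88.Walter.pre_le _ _ (hRL hx)⟩ hx), mem_pre.2 ⟨g.2, hy⟩⟩)
  refine le_antisymm ((H21.WA.coreImage_le_iff ((H88.Walter.perfPart_le D).trans hDb)).2
    ((H88.Walter.perfPart_le D).trans inf_le_right)) ?_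
  refine (H88.Walter.le_map_perfPart (coreProj b) (Components.component_perfect hL) hLD).trans
    (map_mono ?_)
  refine map_le_iff_le_comap.1 (H88.Walter.le_perfPart
    ((map_mono (H88.Walter.perfPart_le _)).trans ?_)
    (by rw [← map_commutator, H88.Walter.perfPart_perfect]))
  rw [subgroupOf_map_subtype]
  exact inf_le_left

/-- The core of `C(a)` kills a component of `C(e)` modulo its core which `a` centralises. -/
theorem coreImage_core_le {a e : G} (ha2 : orderOf a = 2) (hae : a ∈ centralizer ({e} : Set G))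
    {L : Subgroup (Bb e)} (hL : Cfsg.IsComponent L)
    (hc : coreProj e ⟨a, hae⟩ ∈ centralizer (L : Set (Bb e))) :
    coreImage e (core a) ≤ centralizer (L : Set (Bb e)) := by
  set x := coreProj e ⟨a, hae⟩
  have ha : a * a = 1 := by rw [← pow_two, ← ha2]; exact pow_orderOf_eq_one a
  have hx1 : x ≠ 1 := fun hx => by
    have h1 := H21.Walter.eq_one_of_odd (H88.Walter.core_odd e) (coreProj_eq_one_iff.1 hx) ha
    change a = 1 at h1
    rw [h1, orderOf_one] at ha2
    omega
  have hsq : x ^ 2 = 1 := by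
    rw [pow_two, ← map_mul, show (⟨a, hae⟩ : ↥(centralizer ({e} : Set G))) * ⟨a, hae⟩ = 1 from
      Subtype.ext ha, map_one]
  have hsig : H40.IsCentralSignalizer 2 x (coreImage e (core a)) := by
    refine ⟨⟨1, by rw [pow_one]; exact hsq⟩, ?_, ?_, Nat.coprime_two_right.2
      (H21.Walter.card_coreImage_odd e (H47.not_dvd_centralizerPPrimeCore a))⟩
    · rintro _ ⟨k, hk, rfl⟩
      refine mem_centralizer_singleton_iff.2 ?_
      rw [← map_mul, ← map_mul]
      exact congrArg _ (Subtype.ext (mem_centralizer_singleton_iff.1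
        (H88.Walter.core_le a (mem_subgroupOf.1 hk))))
    · refine le_trans ?_ (H21.Walter.centralizer_le_normalizer_coreImage (P := zpowers a)
        (IsPGroup.of_card (n := 1) (by rw [Nat.card_zpowers, ha2, pow_one]))
        ((inf_le_left.trans ((centralizer_le (Set.singleton_subset_iff.2 (mem_zpowers a))).trans
          (H88.Walter.core_normal a)))) (zpowers_le.2 hae))
      intro g hg
      refine mem_centralizer_iff.2 ?_
      rintro _ ⟨⟨y, hyb⟩, hy, rfl⟩
      obtain ⟨n, rfl⟩ := mem_zpowers_iff.1 (show y ∈ zpowers a from hy)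
      rw [show (⟨a ^ n, hyb⟩ : ↥(centralizer ({e} : Set G))) = ⟨a, hae⟩ ^ n from
        Subtype.ext (by simp), map_zpow]
      exact (Commute.zpow_left (Commute.symm (mem_centralizer_singleton_iff.1 hg :
        Commute g x)) n).eq
  exact H40.sig_le_centralizer Cores.pPrimeCore_quotient_pPrimeCore (orderOf_eq_prime hsq hx1)
    hsig hL (Or.inl hc)

/-! ### The blocks -/

/-- `L` is a component of the block `P` at `r`. -/
structure Blk (A : Subgroup G) (Ps : Set (Subgroup G)) (P : Subgroup G) (r : G)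
    (L : Subgroup (Bb r)) : Prop where
  mem : r ∈ others Ps P
  ne : r ≠ 1
  met : CMet A r L
  piece : vp A r L = P

/-- The layer of the block `P`. -/
def lam (A : Subgroup G) (Ps : Set (Subgroup G)) (P : Subgroup G) : Subgroup G :=
  sSup {M : Subgroup G | ∃ (r : G) (L : Subgroup (Bb r)), Blk A Ps P r L ∧ M = perfPart (pre r L)}

variable (h : H82.WA.Hyp S A) (d : Decomp A Ps)

section Blocks

variable {P : Subgroup G} (hP : P ∈ Ps)
include d hP

theorem block_le : P ≤ A := d.sup ▸ le_sSup hP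

theorem others_le : others Ps P ≤ A := d.sup ▸ sSup_le_sSup Set.sdiff_subset

theorem block_ne_bot : P ≠ ⊥ := fun e => by
  have := d.four P hP
  rw [e, Subgroup.card_bot] at this
  omega

theorem le_others {Q : Subgroup G} (hQ : Q ∈ Ps) (hne : Q ≠ P) : Q ≤ others Ps P :=
  le_sSup ⟨hQ, hne⟩

/-- An element in the others of two blocks. -/
theorem exists_common {Q : Subgroup G} (hQ : Q ∈ Ps) :
    ∃ r, r ∈ others Ps P ∧ r ∈ others Ps Q ∧ r ≠ 1 := by
  obtain ⟨R, hR, hRP, hRQ⟩ := d.three P hP Q hQ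
  obtain ⟨⟨r, hr⟩, hr1⟩ := R.ne_bot_iff_exists_ne_one.1 (block_ne_bot d hR)
  exact ⟨r, le_others d hP hR hRP hr, le_others d hQ hR hRQ hr, fun e => hr1 (Subtype.ext e)⟩

theorem card_others : 16 ≤ Nat.card ↥(others Ps P) := by
  obtain ⟨Q, hQ, hQP, -⟩ := d.three P hP P hP
  obtain ⟨R, hR, hRP, hRQ⟩ := d.three P hP Q hQ
  have hdisj : ∀ x ∈ Q, x ∈ R → x = 1 := fun x hx hx' =>
    mem_bot.1 (d.indep Q hQ ▸ (⟨hx, le_others d hQ hR hRQ hx'⟩ : x ∈ Q ⊓ others Ps Q))
  have hle := Nat.card_le_card_of_injective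
    (fun p : ↥Q × ↥R => (⟨p.1 * p.2, mul_mem (le_others d hP hQ hQP p.1.2)
      (le_others d hP hR hRP p.2.2)⟩ : ↥(others Ps P))) fun p q e => by
    have e' : (p.1 : G) * p.2 = q.1 * q.2 := congrArg Subtype.val e
    have h1 : (q.1 : G)⁻¹ * p.1 = q.2 * (p.2 : G)⁻¹ := by
      rw [eq_mul_inv_iff_mul_eq, mul_assoc, e', inv_mul_cancel_left]
    have h2 := hdisj _ (Q.mul_mem (Q.inv_mem q.1.2) p.1.2)
      (h1 ▸ R.mul_mem q.2.2 (R.inv_mem p.2.2))
    have h3 : (p.1 : G) = q.1 := (inv_mul_eq_one.1 h2).symm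
    rw [h3] at e'
    exact Prod.ext (Subtype.ext h3) (Subtype.ext (mul_left_cancel e'))
  rw [Nat.card_prod] at hle
  exact le_trans (Nat.mul_le_mul (d.four Q hQ) (d.four R hR) |>.trans' (by norm_num)) hle

theorem eq_of_inf {Q : Subgroup G} (hQ : Q ∈ Ps) {x : G} (hx : x ∈ P) (hxQ : x ∈ Q) (hx1 : x ≠ 1) :
    Q = P := by
  by_contra hne
  exact hx1 (mem_bot.1 (d.indep P hP ▸ (⟨hx, le_others d hP hQ hne hxQ⟩ : x ∈ P ⊓ others Ps P)))

include h

/-- A met component whose piece meets `P` is centralised by the other blocks. -/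
theorem block_of_meet {b : G} (hb : b ∈ A) (hb1 : b ≠ 1) {L : Subgroup (Bb b)} (hL : CMet A b L)
    (hle : vp A b L ≤ P) : others Ps P ≤ qp A b L := by
  obtain ⟨Q, hQ, hvQ, hq⟩ := d.met b hb hb1 L hL
  obtain ⟨⟨v, hv⟩, hv1⟩ := (vp A b L).ne_bot_iff_exists_ne_one.1 (h.vp_ne_bot hb hb1 hL)
  rwa [eq_of_inf d hP hQ (hle hv) (hvQ hv) fun e => hv1 (Subtype.ext e)] at hq

theorem blk_unique {s : G} {L J : Subgroup (Bb s)} (hB : Blk A Ps P s L) (hJ : CMet A s J)
    {v : G} (hv : v ∈ vp A s J) (hvP : v ∈ P) (hv1 : v ≠ 1) : J = L := by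
  have hs := others_le d hP hB.mem
  by_contra hne
  have h1 : v ∈ vp A s L ⊓ qp A s L :=
    ⟨hB.piece.ge hvP, h.vp_le_qp hs hB.ne hB.met hJ hne hv⟩
  rw [h.inf_eq hs hB.ne hB.met, mem_bot] at h1
  exact hv1 h1

theorem blk_qp {r : G} {L : Subgroup (Bb r)} (hB : Blk A Ps P r L) : others Ps P ≤ qp A r L :=
  block_of_meet h d hP (others_le d hP hB.mem) hB.ne hB.met hB.piece.le

/-- A met component with piece in `P` passes into the component of the block at `s`. -/
theorem link_into {b : G} (hb : b ∈ A) (hb1 : b ≠ 1) {L : Subgroup (Bb b)} (hL : CMet A b L)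
    (hvP : vp A b L ≤ P) {s : G} {L' : Subgroup (Bb s)} (hB : Blk A Ps P s L') :
    perfPart (centralizer (others Ps P : Set G) ⊓ pre b L) ≤ pre s L' := by
  have hs := others_le d hP hB.mem
  have hsq := block_of_meet h d hP hb hb1 hL hvP hB.mem
  obtain ⟨J, hJ, hv, -, hM, -⟩ := h.link G S A h.cfg b s (h.le_centralizer hb)
    (h.orderOf_eq hb hb1) (h.le_centralizer hs) (h.orderOf_eq hs hB.ne) L hL hsq.2
  obtain ⟨⟨v, hvL⟩, hv1⟩ := (vp A b L).ne_bot_iff_exists_ne_one.1 (h.vp_ne_bot hb hb1 hL)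
  obtain rfl := blk_unique h d hP hB hJ (hv hvL) (hvP hvL) fun e => hv1 (Subtype.ext e)
  refine le_trans ?_ ((perfPart_le_perfRes _).trans hM)
  exact H88.Walter.le_perfPart ((H88.Walter.perfPart_le _).trans (inf_le_inf
    (centralizer_le (Set.singleton_subset_iff.2 hB.mem)) le_rfl))
    (H88.Walter.perfPart_perfect _)

theorem blk_exists {r : G} (hr : r ∈ others Ps P) (hr1 : r ≠ 1) :
    ∃ L, Blk A Ps P r L := by
  obtain ⟨L, hL, hv, -⟩ := d.full P hP r hr hr1
  exact ⟨L, hr, hr1, hL, hv⟩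

variable (hdelta : ∀ E : Subgroup G, E ≤ A → 8 ≤ Nat.card E → Cfsg.signalizerDelta 2 E = ⊥)
include hdelta

/-- The core of `C(r)` centralises the layer at `r`. -/
theorem core_le_centralizer {r : G} {L : Subgroup (Bb r)} (hB : Blk A Ps P r L) :
    core r ≤ centralizer (perfPart (centralizer (others Ps P : Set G) ⊓ pre r L) : Set G) := by
  haveI : IsMulCommutative A := h.cfg.elem.1
  set D := perfPart (centralizer (others Ps P : Set G) ⊓ pre r L) with hD
  have hr := others_le d hP hB.mem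
  have hDR : D ≤ centralizer (others Ps P : Set G) :=
    (H88.Walter.perfPart_le _).trans inf_le_left
  have hDr : D ≤ normalizer (core r : Set G) :=
    ((H88.Walter.perfPart_le _).trans (inf_le_right.trans (H88.Walter.pre_le _ _))).trans
      (H88.Walter.core_normal r)
  refine Coprime.le_of_centralizer_cyclic_quotient_le
    ((h.le_cent hr).trans (H88.Walter.core_normal r)) ?_ fun B hB' hBh => ?_
  · obtain ⟨i, hi⟩ := IsPGroup.iff_card.1 h.isPGroup
    rw [hi]
    exact Nat.Coprime.pow_left _ (Nat.coprime_two_left.2 (H88.Walter.core_odd r))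
  set E := B ⊓ others Ps P with hE
  have hE8 : 8 ≤ Nat.card E := by
    have h1 := H21.Walter.hyper_card (p := 2) h.cfg.elem hB' hBh
    have h2 : Nat.card E * 2 ≥ Nat.card ↥(others Ps P) := by
      obtain ⟨c, hc, hBc⟩ := hBh
      have hidx : B.relIndex A ≤ 2 := by
        have h4 := relIndex_mul_relIndex ⊥ B A bot_le hB'
        rw [relIndex_bot_left, relIndex_bot_left] at h4
        have h5 : 0 < Nat.card B := Nat.card_pos
        exact Nat.le_of_mul_le_mul_left (h4.le.trans h1) h5
      have h6 := relIndex_mul_relIndex ⊥ E (others Ps P) bot_le inf_le_right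
      rw [relIndex_bot_left, relIndex_bot_left] at h6
      have h7 : E.relIndex (others Ps P) ≤ 2 := by
        rw [hE, inf_relIndex_right]
        exact le_trans (relIndex_le_of_le_right (others_le d hP)
          (by rw [relIndex]; exact index_ne_zero_of_finite)) hidx
      exact h6 ▸ Nat.mul_le_mul_left _ h7
    have := card_others d hP
    omega
  have hcop := hdelta E (inf_le_left.trans hB') hE8
  rintro c ⟨hc, hcB⟩
  refine mem_centralizer_iff.2 fun x hx => ?_
  have hxR := hDR hx
  have hmem : ⁅c, x⁆ ∈ Cfsg.signalizerDelta 2 E := by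
    refine mem_iInf.2 fun ⟨e, he, he1⟩ => ?_
    have hec : c ∈ centralizer ({e} : Set G) :=
      centralizer_le (Set.singleton_subset_iff.2 he.1) hcB
    have hex : x ∈ centralizer ({e} : Set G) :=
      centralizer_le (Set.singleton_subset_iff.2 he.2) hxR
    obtain ⟨Le, hLe⟩ := blk_exists h d hP he.2 he1
    have hre : r ∈ centralizer ({e} : Set G) := h.le_cent (others_le d hP he.2) hr
    have hrq : r ∈ cen e Le := (blk_qp h d hP hLe hB.mem).2
    obtain ⟨_, hrL⟩ := mem_pre.1 hrq
    obtain ⟨_, hxL⟩ := mem_pre.1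
      (link_into h d hP hr hB.ne hB.met hB.piece.le hLe hx)
    have hcc := coreImage_core_le (h.orderOf_eq hr hB.ne) hre hLe.met.1 hrL
      (H88.Walter.coreImage_mem hec hc)
    refine (coreProj_eq_one_iff (x := ⁅(⟨c, hec⟩ : ↥(centralizer ({e} : Set G))), ⟨x, hex⟩⁆)).1 ?_
    rw [map_commutatorElement, commutatorElement_eq_one_iff_mul_comm]
    exact (mem_centralizer_iff.1 hcc _ hxL).symm
  rw [hcop, mem_bot, commutatorElement_eq_one_iff_mul_comm] at hmem
  exact hmem.symm

theorem perfPart_pre {r : G} {L : Subgroup (Bb r)} (hB : Blk A Ps P r L) :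
    perfPart (pre r L) = perfPart (centralizer (others Ps P : Set G) ⊓ pre r L) := by
  set D := perfPart (centralizer (others Ps P : Set G) ⊓ pre r L)
  refine le_antisymm ?_ (H88.Walter.le_perfPart ((H88.Walter.perfPart_le _).trans inf_le_right)
    (H88.Walter.perfPart_perfect _))
  refine H88.Walter.le_of_le_sup (H88.Walter.perfPart_perfect _)
    (R := core r) ?_ ((H88.Walter.perfPart_le _).trans ?_) fun Z hZ hp =>
      H88.Walter.perfect_odd_eq_bot hp (H88.Walter.odd_of_le (H88.Walter.core_odd r) hZ)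
  · exact (core_le_centralizer h d hP hdelta hB).trans (centralizer_le_normalizer _)
  · refine pre_le_of_cover le_sup_right ?_
    have him : coreImage r D = L := image_perfPart hB.met.1
      (h.isPGroup.to_le (others_le d hP)) ((blk_qp h d hP hB).trans inf_le_right)
    exact him.ge.trans (H21.WA.coreImage_mono' le_sup_left)

theorem lam_eq {r : G} {L : Subgroup (Bb r)} (hB : Blk A Ps P r L) :
    lam A Ps P = perfPart (pre r L) := by
  refine le_antisymm (sSup_le ?_) (le_sSup ⟨r, L, hB, rfl⟩)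
  rintro _ ⟨s, J, hJ, rfl⟩
  rw [perfPart_pre h d hP hdelta hJ]
  exact H88.Walter.le_perfPart (link_into h d hP (others_le d hP hJ.mem) hJ.ne hJ.met hJ.piece.le hB)
    (H88.Walter.perfPart_perfect _)

/-- A met component of the block lies over its layer. -/
theorem pre_le_lam_sup {b : G} (hb : b ∈ A) (hb1 : b ≠ 1) {L : Subgroup (Bb b)} (hL : CMet A b L)
    (hvP : vp A b L ≤ P) : pre b L ≤ lam A Ps P ⊔ core b := by
  obtain ⟨s, hs, -, hs1⟩ := exists_common d hP hP
  obtain ⟨L', hB⟩ := blk_exists h d hP hs hs1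
  have hD : perfPart (centralizer (others Ps P : Set G) ⊓ pre b L) ≤ lam A Ps P := by
    rw [lam_eq h d hP hdelta hB]
    exact H88.Walter.le_perfPart (link_into h d hP hb hb1 hL hvP hB)
      (H88.Walter.perfPart_perfect _)
  refine pre_le_of_cover le_sup_right ?_
  rw [← image_perfPart hL.1 (h.isPGroup.to_le (others_le d hP))
    ((block_of_meet h d hP hb hb1 hL hvP).trans inf_le_right)]
  exact H21.WA.coreImage_mono' (hD.trans le_sup_left)

theorem lam_le {r : G} (hr : r ∈ others Ps P) (hr1 : r ≠ 1) :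
    lam A Ps P ≤ centralizer ({r} : Set G) ∧ core r ≤ centralizer (lam A Ps P : Set G) := by
  obtain ⟨L, hB⟩ := blk_exists h d hP hr hr1
  rw [lam_eq h d hP hdelta hB, perfPart_pre h d hP hdelta hB]
  exact ⟨(H88.Walter.perfPart_le _).trans (inf_le_right.trans (H88.Walter.pre_le _ _)),
    core_le_centralizer h d hP hdelta hB⟩

theorem lam_ne_bot : lam A Ps P ≠ ⊥ := by
  obtain ⟨r, hr, -, hr1⟩ := exists_common d hP hP
  obtain ⟨L, hB⟩ := blk_exists h d hP hr hr1
  intro e
  rw [lam_eq h d hP hdelta hB, perfPart_pre h d hP hdelta hB] at e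
  have him := image_perfPart hB.met.1 (h.isPGroup.to_le (others_le d hP))
    ((blk_qp h d hP hB).trans inf_le_right)
  rw [e] at him
  refine Components.qsSub_ne_bot hB.met.1.2 ?_
  rw [← him, H21.WA.coreImage_eq_bot_iff bot_le]
  exact bot_le

/-- Distinct layers commute. -/
theorem lam_commute {Q : Subgroup G} (hQ : Q ∈ Ps) (hne : P ≠ Q) :
    lam A Ps P ≤ centralizer (lam A Ps Q : Set G) := by
  obtain ⟨r, hrP, hrQ, hr1⟩ := exists_common d hP hQ
  obtain ⟨L, hBL⟩ := blk_exists h d hP hrP hr1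
  obtain ⟨J, hBJ⟩ := blk_exists h d hQ hrQ hr1
  have hLJ : L ≠ J := fun e => hne (by rw [← hBL.piece, ← hBJ.piece, e])
  have hPp : ⁅lam A Ps P, lam A Ps P⁆ = lam A Ps P := by
    rw [lam_eq h d hP hdelta hBL]; exact H88.Walter.perfPart_perfect _
  obtain ⟨hPr, hcP⟩ := lam_le h d hP hdelta hrP hr1
  obtain ⟨hQr, -⟩ := lam_le h d hQ hdelta hrQ hr1
  have hcore : ⁅lam A Ps P, lam A Ps Q⁆ ≤ core r := by
    refine (H21.WA.coreImage_eq_bot_iff ((commutator_mono hPr hQr).trans
      (commutator_le_self _))).1 ?_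
    rw [H21.WA.coreImage_commutator hPr hQr, eq_bot_iff,
      ← Components.components_commute hBL.met.1 hBJ.met.1 hLJ]
    refine commutator_mono ((H21.WA.coreImage_le_iff hPr).2 ?_)
      ((H21.WA.coreImage_le_iff hQr).2 ?_)
    · rw [lam_eq h d hP hdelta hBL]; exact H88.Walter.perfPart_le _
    · rw [lam_eq h d hQ hdelta hBJ]; exact H88.Walter.perfPart_le _
  have h1 : ⁅⁅lam A Ps P, lam A Ps Q⁆, lam A Ps P⁆ = ⊥ :=
    commutator_eq_bot_iff_le_centralizer.2 (hcore.trans hcP)
  rw [← commutator_eq_bot_iff_le_centralizer, ← hPp]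
  exact commutator_commutator_eq_bot_of_rotate h1 (by rw [commutator_comm (lam A Ps Q)]; exact h1)

/-- The cores normalise the layers. -/
theorem core_le_normalizer {b : G} (hb : b ∈ A) :
    core b ≤ normalizer (lam A Ps P : Set G) := by
  haveI : IsMulCommutative A := h.cfg.elem.1
  refine Coprime.le_of_centralizer_cyclic_quotient_le
    ((h.le_cent hb).trans (H88.Walter.core_normal b)) ?_ fun B hB' hBh => ?_
  · obtain ⟨i, hi⟩ := IsPGroup.iff_card.1 h.isPGroup
    rw [hi]
    exact Nat.Coprime.pow_left _ (Nat.coprime_two_left.2 (H88.Walter.core_odd b))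
  obtain ⟨r, hr, hr1⟩ : ∃ r, r ∈ B ⊓ others Ps P ∧ r ≠ 1 := by
    by_contra! hno
    have hR := card_others d hP
    have h1 := H21.Walter.hyper_card (p := 2) h.cfg.elem hB' hBh
    have hle := Nat.card_le_card_of_injective
      (fun p : ↥B × ↥(others Ps P) => (⟨p.1 * p.2, mul_mem (hB' p.1.2) (others_le d hP p.2.2)⟩ : ↥A))
      fun p q e => by
      have e' : (p.1 : G) * p.2 = q.1 * q.2 := congrArg Subtype.val e
      have h1 : (q.1 : G)⁻¹ * p.1 = q.2 * (p.2 : G)⁻¹ := by
        rw [eq_mul_inv_iff_mul_eq, mul_assoc, e', inv_mul_cancel_left]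
      have h2 := hno _ ⟨B.mul_mem (B.inv_mem q.1.2) p.1.2,
        h1 ▸ (others Ps P).mul_mem q.2.2 ((others Ps P).inv_mem p.2.2)⟩
      have h3 : (p.1 : G) = q.1 := (inv_mul_eq_one.1 h2).symm
      rw [h3] at e'
      exact Prod.ext (Subtype.ext h3) (Subtype.ext (mul_left_cancel e'))
    rw [Nat.card_prod] at hle
    have h5 : 0 < Nat.card B := Nat.card_pos
    have h6 := (Nat.mul_le_mul_left (Nat.card B) hR).trans (hle.trans h1)
    omega
  rintro c ⟨hcb, hcB⟩
  have hrA := others_le d hP hr.2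
  have hcr : c ∈ centralizer ({r} : Set G) := centralizer_le (Set.singleton_subset_iff.2 hr.1) hcB
  obtain ⟨L, hBL⟩ := blk_exists h d hP hr.2 hr1
  set g := coreProj r ⟨c, hcr⟩ with hg
  set J := L.map (MulAut.conj g).toMonoidHom with hJ
  have hJmet : Met (coreImage r A) J := (h.struct hrA hr1).met_conj L hBL.met g
  suffices hJL : J = L by
    rw [lam_eq h d hP hdelta hBL]
    exact H88.Walter.normalizer_le_perfPart _
      (H21.WA.mem_normalizer_pre hcr (Coprime.mem_normalizer_of_map_conj hJL))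
  by_contra hne
  obtain ⟨⟨a, ha⟩, ha1⟩ := P.ne_bot_iff_exists_ne_one.1 (block_ne_bot d hP)
  have haA : a ∈ A := block_le d hP ha
  have har : a ∈ centralizer ({r} : Set G) := h.le_cent hrA haA
  obtain ⟨_, haL⟩ := mem_pre.1 (hBL.piece.ge ha).2
  set y := coreProj r ⟨a, har⟩ with hy
  have hsq : a * a = 1 := h.sq haA
  have hyy : y * y = 1 := by
    rw [← map_mul, show (⟨a, har⟩ : ↥(centralizer ({r} : Set G))) * ⟨a, har⟩ = 1 from
      Subtype.ext hsq, map_one]
  have hgy : g * y * g⁻¹ ∈ J := ⟨y, haL, rfl⟩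
  have hcomm : y * (g * y * g⁻¹) = g * y * g⁻¹ * y :=
    mem_centralizer_iff.1 (commutator_eq_bot_iff_le_centralizer.1
      (Components.components_commute hJmet.1 hBL.met.1 hne) hgy) y haL
  have hu : c * a * c⁻¹ * a⁻¹ ∈ core b := by
    rw [mul_assoc, mul_assoc, ← mul_assoc a]
    exact (core b).mul_mem hcb (Coprime.conj_mem
      (H88.Walter.core_normal b (h.le_cent hb haA)) ((core b).inv_mem hcb))
  have hur : c * a * c⁻¹ * a⁻¹ ∈ centralizer ({r} : Set G) :=
    mul_mem (mul_mem (mul_mem hcr har) (inv_mem hcr)) (inv_mem har)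
  have hpu : coreProj r ⟨_, hur⟩ = g * y * g⁻¹ * y := by
    have : (⟨_, hur⟩ : ↥(centralizer ({r} : Set G))) =
        ⟨c, hcr⟩ * ⟨a, har⟩ * ⟨c, hcr⟩⁻¹ * ⟨a, har⟩⁻¹ := Subtype.ext rfl
    rw [this, map_mul, map_mul, map_mul, map_inv, map_inv, ← hg, ← hy,
      inv_eq_of_mul_eq_one_right hyy]
  have h2 : (g * y * g⁻¹ * y) ^ 2 = 1 := by
    rw [pow_two]
    calc g * y * g⁻¹ * y * (g * y * g⁻¹ * y) = g * y * g⁻¹ * (y * (g * y * g⁻¹)) * y := by group
      _ = g * (y * y) * g⁻¹ * (y * y) := by rw [hcomm]; group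
      _ = 1 := by rw [hyy]; group
  have h3 : g * y * g⁻¹ * y = 1 := by
    refine orderOf_eq_one_iff.1 (Nat.eq_one_of_dvd_coprimes
      (Nat.coprime_two_left.2 (H88.Walter.odd_of_mem (H88.Walter.core_odd b) hu))
      (orderOf_dvd_of_pow_eq_one h2) ?_)
    rw [← hpu]
    refine (orderOf_map_dvd (coreProj r) _).trans (dvd_of_eq ?_)
    exact (orderOf_injective _ (Subgroup.subtype_injective _) _).symm
  have h4 : g * y * g⁻¹ = y := by
    rw [mul_eq_one_iff_eq_inv, inv_eq_of_mul_eq_one_right hyy] at h3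
    exact h3
  have hyc : y ∈ centralizer (L : Set (Bb r)) := commutator_eq_bot_iff_le_centralizer.1
    (Components.components_commute hJmet.1 hBL.met.1 hne) (h4 ▸ hgy)
  have hyz : (⟨y, haL⟩ : ↥L) ∈ center ↥L :=
    mem_center_iff.2 fun l => Subtype.ext (mem_centralizer_iff.1 hyc l l.2)
  rw [h.center_bot hrA hr1 hBL.met, mem_bot] at hyz
  have hy1 : coreProj r ⟨a, har⟩ = 1 := congrArg Subtype.val hyz
  exact ha1 (Subtype.ext (congrArg (fun z : ↥(centralizer ({r} : Set G)) => (z : G)) (H21.Walter.coreProj_injOn h.cfg.elem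
    (x := ⟨a, har⟩) haA hy1)))

end Blocks

end Cfsg.Agent.H88.WA
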