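import Cfsg.Agent.H77.WA.Defs
import Cfsg.Agent.H62.WA.Good

/-!
# Half-balance with respect to a strongly closed `A`: one centraliser modulo its core

In a core-free `X` whose met components are centre-free an odd subgroup under the signalizers of
`B ≤ A` centralises `A` if `|B| ≥ 4`, and is trivial if `|B| ≥ 8`: a piece is rigid or has order
four, and the unmet components and `O₂(X)` are centralised.
-/

set_option autoImplicit false
set_option linter.unusedSectionVars false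

namespace Cfsg.Agent.H88.WA

open Subgroup Cfsg.Agent
open Cfsg.Agent.H21.Walter (OddTrivialAt)
open Cfsg.Agent.H77.WA (Struct Met Quot TypeFacts)
open scoped commutatorElement

universe u

variable {X : Type u} [Group X] [Finite X] {A : Subgroup X}

local instance fact_two_wa_local : Fact (Nat.Prime 2) := ⟨Nat.prime_two⟩

/-- Every piece of a met component is rigid, or the piece has order at most four. -/
theorem piece_type (htf : TypeFacts.{u}) (hA : Cfsg.IsElementaryAbelian 2 A) (hs : Struct A)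
    {L : Subgroup X} (hL : Met A L) (hZ : center ↥L = ⊥) :
    (∀ (v : X) (hv : v ∈ L), v ∈ A → (QuotientGroup.mk ⟨v, hv⟩ : Quot L) = 1 ∨
      OddTrivialAt (QuotientGroup.mk ⟨v, hv⟩ : Quot L)) ∨ Nat.card ↥(A ⊓ L) ≤ 4 := by
  obtain ⟨T, hT⟩ := ((H47.isPGroup_of_elementaryAbelian hA).comap_subtype :
    IsPGroup 2 ↥(A.subgroupOf L)).exists_le_sylow
  set π := QuotientGroup.mk' (center ↥L)
  set Tq : Sylow 2 (Quot L) := T.mapSurjective (QuotientGroup.mk'_surjective _)
  have hvT : ∀ (v : X) (hv : v ∈ L), v ∈ A → π ⟨v, hv⟩ ∈ (Tq : Subgroup (Quot L)) :=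
    fun v hv hvA => mem_map_of_mem π (hT (mem_subgroupOf.2 hvA))
  rcases hs.type L hL with hAT | hNT
  · rcases (htf.ab _ hAT Tq).piece.type with hU | hOT
    · refine Or.inr (le_of_le_of_eq ?_ hU.1)
      refine Nat.card_le_card_of_injective (fun v : ↥(A ⊓ L) =>
        (⟨π ⟨v, v.2.2⟩, hvT v v.2.2 v.2.1⟩ : ↥(Tq : Subgroup (Quot L)))) fun v w e => ?_
      have h1 : (⟨v, v.2.2⟩ : ↥L)⁻¹ * ⟨w, w.2.2⟩ ∈ center ↥L :=
        QuotientGroup.eq.1 (congrArg Subtype.val e)
      rw [hZ, mem_bot, inv_mul_eq_one] at h1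
      exact Subtype.ext (congrArg (fun y : ↥L => (y : X)) h1)
    · exact Or.inl fun v hv hvA => or_iff_not_imp_left.2 (hOT _ (hvT v hv hvA))
  · obtain ⟨V, hV⟩ := htf.nab _ hNT Tq
    refine Or.inl fun v hv hvA => or_iff_not_imp_left.2 (hV.odd_trivial _ ((hV.mem_iff _).2
      ⟨hvT v hv hvA, ?_⟩))
    show π ⟨v, hv⟩ * π ⟨v, hv⟩ = 1
    rw [← map_mul, show (⟨v, hv⟩ * ⟨v, hv⟩ : ↥L) = 1 from
      Subtype.ext (show v * v = 1 by rw [← pow_two]; exact hA.2 v hvA), map_one]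

variable {B W : Subgroup X}

/-- The hypothesis on `W` gives central signalizers over it. -/
theorem exists_sig (hA : Cfsg.IsElementaryAbelian 2 A) (hB : B ≤ A)
    (hU : H21.Walter.LocalPieces.Under B W) {e : X} (he : e ∈ B) (he1 : e ≠ 1) :
    ∃ K : Subgroup X, H40.IsCentralSignalizer 2 e K ∧ W ≤ K := by
  obtain ⟨K, hK, hKe, hKn, hWK⟩ := hU.cover e he he1
  exact ⟨K, ⟨⟨1, by rw [pow_one]; exact hA.2 e (hB he)⟩, hKe, hKn, Nat.coprime_two_right.2 hK⟩, hWK⟩

/-- The decomposition of an element of `A` at a met component. -/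
theorem exists_split (hs : Struct A) {L : Subgroup X} (hL : Met A L) {e : X} (he : e ∈ A) :
    ∃ v ∈ A ⊓ L, ∃ r ∈ A ⊓ centralizer (L : Set X), v * r = e := by
  refine (Coprime.mem_sup_iff ?_).1 (hs.split L hL he)
  exact inf_le_right.trans ((centralizer_le (SetLike.coe_subset_coe.2 inf_le_right)).trans
    (centralizer_le_normalizer _))

/-- A met component: `W` centralises it or its piece. -/
theorem piece_cases (htf : TypeFacts.{u}) (hA : Cfsg.IsElementaryAbelian 2 A) (hs : Struct A)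
    (hO : Cfsg.pPrimeCore 2 X = ⊥) (hB : B ≤ A) (hB1 : B ≠ ⊥)
    (hU : H21.Walter.LocalPieces.Under B W)
    {L : Subgroup X} (hL : Met A L) (hZ : center ↥L = ⊥) :
    W ≤ centralizer (L : Set X) ∨ (Nat.card B ≤ 4 ∧ W ≤ normalizer (L : Set X) ∧
      (4 ≤ Nat.card B → W ≤ centralizer ((A ⊓ L : Subgroup X) : Set X))) := by
  have hord : ∀ e ∈ B, e ≠ 1 → orderOf e = 2 := fun e he he1 =>
    orderOf_eq_prime (hA.2 e (hB he)) he1
  by_cases hex : ∃ e ∈ B, e ≠ 1 ∧ e ∈ centralizer (L : Set X)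
  · obtain ⟨e, he, he1, heL⟩ := hex
    obtain ⟨K, hK, hWK⟩ := exists_sig hA hB hU he he1
    exact Or.inl (hWK.trans (H40.sig_le_centralizer hO (hord e he he1) hK hL.1 (Or.inl heL)))
  obtain ⟨⟨e, he⟩, he'⟩ := B.ne_bot_iff_exists_ne_one.1 hB1
  have he1 : e ≠ 1 := fun h => he' (Subtype.ext h)
  obtain ⟨K, hK, hWK⟩ := exists_sig hA hB hU he he1
  rcases piece_type htf hA hs hL hZ with ht | h4
  · obtain ⟨v, hv, r, hr, hvr⟩ := exists_split hs hL (hB he)
    exact Or.inl (hWK.trans (H62.WA.sig_le_centralizer_of_piece hO (hord e he he1) hK hL.1 hv.2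
      hr.2 hvr (ht v hv.2 hv.1)))
  have hWN : W ≤ normalizer (L : Set X) := hWK.trans (H40.sig_le_normalizer hO hK hL.1)
  choose f hf g hg hfg using fun x : B => exists_split hs hL (hB x.2)
  have hinj : Function.Injective fun x : B => (⟨f x, hf x⟩ : ↥(A ⊓ L)) := fun x y h => by
    have h' : f x = f y := congrArg Subtype.val h
    have hmem : (x : X)⁻¹ * y ∈ centralizer (L : Set X) := by
      rw [← hfg x, ← hfg y, h', mul_inv_rev, mul_assoc, inv_mul_cancel_left]
      exact mul_mem (inv_mem (hg x).2) (hg y).2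
    refine Subtype.ext (inv_mul_eq_one.1 ?_)
    by_contra hne
    exact hex ⟨_, B.mul_mem (B.inv_mem x.2) y.2, hne, hmem⟩
  refine Or.inr ⟨(Nat.card_le_card_of_injective _ hinj).trans h4, hWN, fun hc w hw =>
    mem_centralizer_iff.2 fun v hv => ?_⟩
  obtain ⟨x, hx⟩ := (hinj.bijective_of_nat_card_le (h4.trans hc)).2 ⟨v, hv⟩
  have hxv : f x = v := congrArg Subtype.val hx
  have hwx : Commute w (x : X) := (mem_centralizer_iff.1 (hU.le_cent hw) x x.2).symm
  rw [← hfg x, hxv] at hwx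
  have hwN := hWN hw
  have h1 : v⁻¹ * (w * v * w⁻¹) ∈ L := L.mul_mem (L.inv_mem hv.2) (Coprime.conj_mem hwN hv.2)
  have h2 : v⁻¹ * (w * v * w⁻¹) ∈ centralizer (L : Set X) := by
    have e1 : v⁻¹ * (w * v * w⁻¹) = g x * (w * g x * w⁻¹)⁻¹ := by
      have e2 : w * v * w⁻¹ * (w * g x * w⁻¹) = v * g x := by
        rw [show w * v * w⁻¹ * (w * g x * w⁻¹) = w * (v * g x) * w⁻¹ by group, hwx.eq,
          mul_inv_cancel_right]
      rw [inv_mul_eq_iff_eq_mul, ← mul_assoc, ← e2, mul_inv_cancel_right]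
    rw [e1]
    exact mul_mem (hg x).2 (inv_mem (Coprime.conj_mem
      (H40.normalizer_le_normalizer_centralizer L hwN) (hg x).2))
  have h3 : (⟨_, h1⟩ : ↥L) ∈ center ↥L :=
    mem_center_iff.2 fun y => Subtype.ext (mem_centralizer_iff.1 h2 y y.2)
  rw [hZ, mem_bot] at h3
  have h4' : v⁻¹ * (w * v * w⁻¹) = 1 := congrArg Subtype.val h3
  exact (mul_inv_eq_iff_eq_mul.1 (inv_mul_eq_one.1 h4').symm).symm

/-- An unmet component. -/
theorem le_centralizer_unmet (hA : Cfsg.IsElementaryAbelian 2 A) (hO : Cfsg.pPrimeCore 2 X = ⊥)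
    (hB : B ≤ A) (hB1 : B ≠ ⊥) (hU : H21.Walter.LocalPieces.Under B W)
    {L : Subgroup X} (hL : Cfsg.IsComponent L) (hu : A ≤ centralizer (L : Set X)) :
    W ≤ centralizer (L : Set X) := by
  obtain ⟨⟨e, he⟩, he'⟩ := B.ne_bot_iff_exists_ne_one.1 hB1
  have he1 : e ≠ 1 := fun h => he' (Subtype.ext h)
  obtain ⟨K, hK, hWK⟩ := exists_sig hA hB hU he he1
  exact hWK.trans (H40.sig_le_centralizer hO (orderOf_eq_prime (hA.2 e (hB he)) he1) hK hL
    (Or.inl (hu (hB he))))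

/-- `W` centralises `O₂`. -/
theorem le_centralizer_pCore (hA : Cfsg.IsElementaryAbelian 2 A) (hB : B ≤ A) (hB1 : B ≠ ⊥)
    (hU : H21.Walter.LocalPieces.Under B W) : W ≤ centralizer (Cfsg.pCore 2 X : Set X) := by
  obtain ⟨⟨e, he⟩, he'⟩ := B.ne_bot_iff_exists_ne_one.1 hB1
  obtain ⟨K, hK, hWK⟩ := exists_sig hA hB hU he fun h => he' (Subtype.ext h)
  exact hWK.trans (H40.sig_le_centralizer_pCore hK)

/-- **Weak 2-balance.** -/
theorem le_centralizer_of_under (htf : TypeFacts.{u}) (hA : Cfsg.IsElementaryAbelian 2 A)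
    (hs : Struct A) (hO : Cfsg.pPrimeCore 2 X = ⊥) (hZ : ∀ L, Met A L → center ↥L = ⊥)
    (hB : B ≤ A) (hc : 4 ≤ Nat.card B) (hU : H21.Walter.LocalPieces.Under B W) :
    W ≤ centralizer (A : Set X) := by
  have hB1 : B ≠ ⊥ := by rintro rfl; simp at hc
  have hAW : A ≤ normalizer (W : Set X) := le_trans (fun a ha => mem_centralizer_iff.2 fun b hb =>
    congrArg Subtype.val (hA.1.is_comm.comm ⟨b, hB hb⟩ ⟨a, ha⟩)) hU.norm
  have hle : ⁅W, A⁆ ≤ W := le_normalizer_iff_commutator_le_left.1 hAW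
  rw [← commutator_eq_bot_iff_le_centralizer]
  refine H40.eq_bot_of_centralizes hO ((Nat.coprime_two_right.2 hU.odd).coprime_dvd_left
    (card_dvd_of_le hle)) (hle.trans (le_centralizer_pCore hA hB hB1 hU)) fun L hL => ?_
  by_cases hu : A ≤ centralizer (L : Set X)
  · exact hle.trans (le_centralizer_unmet hA hO hB hB1 hU hL hu)
  have hAN : ∀ a ∈ A, a ∈ normalizer (centralizer (L : Set X) : Set X) := fun a ha =>
    H40.normalizer_le_normalizer_centralizer L (hs.fix L hL ha)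
  rw [commutator_le]
  intro w hw a ha
  rcases piece_cases htf hA hs hO hB hB1 hU ⟨hL, hu⟩ (hZ L ⟨hL, hu⟩) with h | ⟨-, hn, h⟩
  · rw [commutatorElement_def, mul_assoc, mul_assoc, ← mul_assoc a]
    exact mul_mem (h hw) (Coprime.conj_mem (hAN a ha) (inv_mem (h hw)))
  obtain ⟨v, hv, r, hr, rfl⟩ := exists_split hs ⟨hL, hu⟩ ha
  have hwv : w * v = v * w := (mem_centralizer_iff.1 (h hc hw) v hv).symm
  have e : ⁅w, v * r⁆ = v * (w * r * w⁻¹ * r⁻¹) * v⁻¹ := by
    rw [commutatorElement_def, mul_inv_rev, ← mul_assoc w v r, hwv]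
    group
  rw [e]
  exact Coprime.conj_mem (H40.normalizer_le_normalizer_centralizer L (le_normalizer hv.2))
    (mul_mem (Coprime.conj_mem (H40.normalizer_le_normalizer_centralizer L (hn hw)) hr.2)
      (inv_mem hr.2))

/-- **3-balance.** -/
theorem eq_bot_of_under (htf : TypeFacts.{u}) (hA : Cfsg.IsElementaryAbelian 2 A)
    (hs : Struct A) (hO : Cfsg.pPrimeCore 2 X = ⊥) (hZ : ∀ L, Met A L → center ↥L = ⊥)
    (hB : B ≤ A) (hc : 8 ≤ Nat.card B) (hU : H21.Walter.LocalPieces.Under B W) : W = ⊥ := by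
  have hB1 : B ≠ ⊥ := by rintro rfl; simp at hc
  refine H40.eq_bot_of_centralizes hO (Nat.coprime_two_right.2 hU.odd)
    (le_centralizer_pCore hA hB hB1 hU) fun L hL => ?_
  by_cases hu : A ≤ centralizer (L : Set X)
  · exact le_centralizer_unmet hA hO hB hB1 hU hL hu
  rcases piece_cases htf hA hs hO hB hB1 hU ⟨hL, hu⟩ (hZ L ⟨hL, hu⟩) with h | ⟨h4, -, -⟩
  · exact h
  · omega

end Cfsg.Agent.H88.WA
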